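import Groth.Agent.Lefpen.H708.Geo

/-!
# The ideal sheaf of a pencil of hypersurfaces with a variable parameter

For `y : Y ⟶ P^r_k`, forms `P Q` of degree `d` and a function `s` on `Y`:
* `pIdeal y P Q s`: the ideal sheaf of `Y` generated, over `y⁻¹ D_+(T_j)`, by `y^*(P / T_j^d) + s * y^*(Q / T_j^d)`;
* `pIdeal_ideal_of_le`: its ideal on affine opens; `comap_pIdeal`: functoriality in `Y`;
* `pIdeal_const`: for `s = c` a constant it is the ideal of the section by `P + c Q`.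
-/

set_option autoImplicit false
universe u

open CategoryTheory AlgebraicGeometry Limits TopologicalSpace Opposite

namespace Groth.Agent.Lefpen.H288.Fam

open LefPen Groth.Agent.Divis.IdealComap Groth.Agent.Fdesc.LocGen Groth.Agent.Lefpen.H705.HypIdeal
open Groth.Agent.Lefpen.H705.SecIdeal

variable {r : ℕ} {k : Type u} [Field k] {d : ℕ}

section

variable {Y : Scheme.{u}} (y : Y ⟶ CohB1.ProjSpace r k)

/-- Change of chart for the pulled back equation. -/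
theorem eqn_change (i j : Fin (r + 1)) (V : Y.Opens) (hi : V ≤ y ⁻¹ᵁ chart r k i)
    (hj : V ≤ y ⁻¹ᵁ chart r k j) :
    ∃ u : Γ(Y, V), IsUnit u ∧ ∀ {e : ℕ} (G : Form r k e), eqn y i V hi G = u ^ e * eqn y j V hj G := by
  have hij : V ≤ y ⁻¹ᵁ (chart r k i ⊓ chart r k j) := fun x hx => ⟨hi hx, hj hx⟩
  have hres : ∀ {U W : (CohB1.ProjSpace r k).Opens} (h : W ≤ U) (hV : V ≤ y ⁻¹ᵁ U) (hW : V ≤ y ⁻¹ᵁ W)
      (f : Γ(CohB1.ProjSpace r k, U)), (y.appLE U V hV).hom f = (y.appLE W V hW).hom (ores h f) := by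
    intro U W h hV hW f
    have := Scheme.Hom.map_appLE y hW (homOfLE h).op
    rw [ores, ← RingHom.comp_apply, ← CommRingCat.hom_comp, this]
  refine ⟨(y.appLE _ V hij).hom (ores inf_le_left (ratio i j)), ?_, ?_⟩
  · exact (isUnit_ores_ratio i j _ inf_le_left inf_le_right).map _
  · intro e G
    rw [eqn, eqn, hres (inf_le_left : chart r k i ⊓ chart r k j ≤ chart r k i) hi hij,
      hres (inf_le_right : chart r k i ⊓ chart r k j ≤ chart r k j) hj hij,
      ores_dehom G i j _ inf_le_left inf_le_right, map_mul, map_pow]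

theorem ores_eqn (j : Fin (r + 1)) {U V : Y.Opens} (h : V ≤ U) (hU : U ≤ y ⁻¹ᵁ chart r k j)
    (G : Form r k d) : ores h (eqn y j U hU G) = eqn y j V (h.trans hU) G := by
  rw [eqn, eqn, ores, ← RingHom.comp_apply, ← CommRingCat.hom_comp]
  rw [Scheme.Hom.appLE_map]

/-- The equation `P_j + s Q_j` on an open of `y⁻¹ D_+(T_j)`. -/
noncomputable def peqn (P Q : Form r k d) (s : Γ(Y, ⊤)) (j : Fin (r + 1)) (U : Y.Opens)
    (hU : U ≤ y ⁻¹ᵁ chart r k j) : Γ(Y, U) :=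
  eqn y j U hU P + ores le_top s * eqn y j U hU Q

theorem ores_peqn (P Q : Form r k d) (s : Γ(Y, ⊤)) (j : Fin (r + 1)) {U V : Y.Opens} (h : V ≤ U)
    (hU : U ≤ y ⁻¹ᵁ chart r k j) : ores h (peqn y P Q s j U hU) = peqn y P Q s j V (h.trans hU) := by
  rw [peqn, peqn, map_add, map_mul, ores_eqn, ores_eqn, ores_ores]

theorem span_peqn (P Q : Form r k d) (s : Γ(Y, ⊤)) (i j : Fin (r + 1)) (V : Y.Opens)
    (hi : V ≤ y ⁻¹ᵁ chart r k i) (hj : V ≤ y ⁻¹ᵁ chart r k j) :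
    Ideal.span {peqn y P Q s i V hi} = Ideal.span {peqn y P Q s j V hj} := by
  obtain ⟨u, hu, h⟩ := eqn_change y i j V hi hj
  have : peqn y P Q s i V hi = u ^ d * peqn y P Q s j V hj := by
    rw [peqn, peqn, h, h]; ring
  rw [this]
  exact Ideal.span_singleton_mul_left_unit (hu.pow d) _

/-- The index set: a chart and an affine open inside its inverse image. -/
abbrev Idx : Type u := Σ j : Fin (r + 1), {U : Y.affineOpens // U.1 ≤ y ⁻¹ᵁ chart r k j}

theorem exists_pIdeal (P Q : Form r k d) (s : Γ(Y, ⊤)) :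
    ∃ D : Y.IdealSheafData, ∀ (j : Fin (r + 1)) (V : Y.affineOpens) (hV : V.1 ≤ y ⁻¹ᵁ chart r k j),
      D.ideal V = Ideal.span {peqn y P Q s j V.1 hV} := by
  obtain ⟨D, hD⟩ := Groth.Agent.Divis.CartierData.exists_ideal (X := Y) (ι := Idx y)
    (fun a => a.2.1)
    (by
      rw [eq_top_iff]
      intro x _
      obtain ⟨j, hj⟩ := Opens.mem_iSup.mp
        (show y x ∈ ⨆ j : Fin (r + 1), chart r k j by rw [iSup_chart]; trivial)
      obtain ⟨U, hU, hxU, hle⟩ := exists_isAffineOpen_mem_and_subset (U := y ⁻¹ᵁ chart r k j) (x := x) hj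
      exact Opens.mem_iSup.mpr ⟨⟨j, ⟨⟨U, hU⟩, hle⟩⟩, hxU⟩)
    (fun a => peqn y P Q s a.1 a.2.1.1 a.2.2)
    (fun a b V ha hb => by
      rw [ores_peqn, ores_peqn]
      exact span_peqn y P Q s _ _ _ _ _)
  refine ⟨D, fun j V hV => ?_⟩
  rw [hD ⟨j, ⟨V, hV⟩⟩ V le_rfl, ores_refl]

/-- The ideal sheaf generated by `P + s Q`. -/
noncomputable def pIdeal (P Q : Form r k d) (s : Γ(Y, ⊤)) : Y.IdealSheafData :=
  (exists_pIdeal y P Q s).choose

theorem pIdeal_ideal_of_le (P Q : Form r k d) (s : Γ(Y, ⊤)) (j : Fin (r + 1)) (V : Y.affineOpens)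
    (hV : V.1 ≤ y ⁻¹ᵁ chart r k j) :
    (pIdeal y P Q s).ideal V = Ideal.span {peqn y P Q s j V.1 hV} :=
  (exists_pIdeal y P Q s).choose_spec j V hV

/-- Two ideal sheaves which agree on the affine opens inside the charts are equal. -/
theorem ext_of_charts {I J : Y.IdealSheafData}
    (h : ∀ (j : Fin (r + 1)) (V : Y.affineOpens) (_ : V.1 ≤ y ⁻¹ᵁ chart r k j), I.ideal V = J.ideal V) :
    I = J := by
  refine ext_of_forall_mem fun x => ?_
  obtain ⟨j, hj⟩ := Opens.mem_iSup.mp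
    (show y x ∈ ⨆ j : Fin (r + 1), chart r k j by rw [iSup_chart]; trivial)
  obtain ⟨U, hU, hxU, hle⟩ := exists_isAffineOpen_mem_and_subset (U := y ⁻¹ᵁ chart r k j) (x := x) hj
  exact ⟨⟨U, hU⟩, hxU, h j ⟨U, hU⟩ hle⟩

theorem eqn_comp {Y' : Scheme.{u}} (f : Y' ⟶ Y) (j : Fin (r + 1)) (U : Y.Opens) (V : Y'.Opens)
    (hU : U ≤ y ⁻¹ᵁ chart r k j) (e : V ≤ f ⁻¹ᵁ U) (G : Form r k d) :
    (f.appLE U V e).hom (eqn y j U hU G) = eqn (f ≫ y) j V (e.trans (f.preimage_mono hU)) G := by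
  rw [eqn, eqn, ← RingHom.comp_apply, ← CommRingCat.hom_comp, Scheme.Hom.appLE_comp_appLE]

theorem peqn_comp {Y' : Scheme.{u}} (f : Y' ⟶ Y) (P Q : Form r k d) (s : Γ(Y, ⊤)) (j : Fin (r + 1))
    (U : Y.Opens) (V : Y'.Opens) (hU : U ≤ y ⁻¹ᵁ chart r k j) (e : V ≤ f ⁻¹ᵁ U) :
    (f.appLE U V e).hom (peqn y P Q s j U hU) =
      peqn (f ≫ y) P Q (f.appTop.hom s) j V (e.trans (f.preimage_mono hU)) := by
  rw [peqn, peqn, map_add, map_mul, eqn_comp, eqn_comp]
  congr 2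
  have h1 := Scheme.Hom.map_appLE f e (homOfLE (le_top : U ≤ ⊤)).op
  have h2 : (f.appLE U V e).hom (ores le_top s) = (f.appLE ⊤ V (e.trans (f.preimage_mono le_top))).hom s := by
    rw [ores, ← RingHom.comp_apply, ← CommRingCat.hom_comp, h1]
  rw [h2]
  rfl

theorem comap_pIdeal {Y' : Scheme.{u}} (f : Y' ⟶ Y) (P Q : Form r k d) (s : Γ(Y, ⊤)) :
    (pIdeal y P Q s).comap f = pIdeal (f ≫ y) P Q (f.appTop.hom s) := by
  refine ext_of_forall_mem fun x => ?_
  obtain ⟨j, hj⟩ := Opens.mem_iSup.mp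
    (show y (f x) ∈ ⨆ j : Fin (r + 1), chart r k j by rw [iSup_chart]; trivial)
  obtain ⟨U, V, -, hxV, -, hUT, e⟩ := exists_affine_le f x ⊤ trivial (y ⁻¹ᵁ chart r k j) hj
  refine ⟨V, hxV, ?_⟩
  rw [ideal_comap _ f U V e, pIdeal_ideal_of_le y P Q s j U hUT,
    pIdeal_ideal_of_le (f ≫ y) P Q (f.appTop.hom s) j V (e.trans (f.preimage_mono hUT)), Ideal.map_span,
    Set.image_singleton, peqn_comp]

/-- The constants as functions on `Y`. -/
noncomputable def constSec (c : k) : Γ(Y, ⊤) :=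
  ((y ≫ CohB1.ProjSpace.toSpec r k).appTop).hom ((Scheme.ΓSpecIso (CommRingCat.of k)).inv.hom c)

theorem eqn_add_smul (P Q : Form r k d) (c : k) (j : Fin (r + 1)) (U : Y.Opens)
    (hU : U ≤ y ⁻¹ᵁ chart r k j) :
    eqn y j U hU (P + c • Q) = peqn y P Q (constSec y c) j U hU := by
  have h := congrFun (congrArg DFunLike.coe (Groth.Agent.Lefpen.H708.Geo.coordU_C y j U hU)) c
  rw [peqn, Groth.Agent.Lefpen.H708.Geo.eqn_eq, Groth.Agent.Lefpen.H708.Geo.eqn_eq,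
    Groth.Agent.Lefpen.H708.Geo.eqn_eq]
  have h1 : ores le_top (constSec y c) =
      Groth.Agent.Lefpen.H708.Geo.coordU y j U hU (MvPolynomial.C c) := by
    refine Eq.trans ?_ h.symm
    rfl
  rw [h1, ← map_mul, ← map_add]
  congr 1
  simp [MvPolynomial.smul_eq_C_mul]

theorem pIdeal_const (P Q : Form r k d) (c : k) :
    pIdeal y P Q (constSec y c) = secIdeal y {P + c • Q} := by
  refine ext_of_charts y fun j V hV => ?_
  rw [pIdeal_ideal_of_le y P Q _ j V hV, secIdeal_ideal_of_le y _ j V hV, Set.image_singleton,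
    eqn_add_smul]

end

end Groth.Agent.Lefpen.H288.Fam
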