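import Groth.Agent.Lefpen.H288.Fam
import Groth.Agent.Ega3B.ProjProper
import Mathlib.AlgebraicGeometry.Morphisms.Proper

/-!
# The family of sections `P + t Q` over `Spec A`

For `i : Z ⟶ P^r_k`, forms `P Q` of degree `d`, a `k`-algebra `A` and `t : A`:
* `Fam i P Q A t`, with `famToZ : Fam ⟶ Z`, `famToA : Fam ⟶ Spec A`, closed in `zprod i A = Z ×_k Spec A` (`famι`);
* `exists_isPullback_map`: base change along `φ : A →ₐ[k] B`;
* `exists_isPullback_sec`: for `t = algebraMap k A c` it is the product of `Sec i {P + c Q}` with `Spec A`;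
* `exists_isPullback_gen`: closed subschemes of schemes over `Z` and `Spec A`.
-/

set_option autoImplicit false
universe u

open CategoryTheory AlgebraicGeometry Limits TopologicalSpace Opposite

namespace Groth.Agent.Lefpen.H288.FamBC

open LefPen Groth.Agent.Lefpen.H288.Fam

/-- A closed immersion whose ideal is the inverse image ideal is the base change of the closed subscheme. -/
theorem exists_isPullback {X Y Z : Scheme.{u}} (I : Y.IdealSheafData) (g : X ⟶ Y) (ι : Z ⟶ X)
    [IsClosedImmersion ι] (h : ι.ker = I.comap g) :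
    ∃ g' : Z ⟶ I.subscheme, IsPullback ι g' g I.subschemeι := by
  have h1 : I.subschemeι.ker ≤ (ι ≫ g).ker := by
    rw [Scheme.IdealSheafData.ker_subschemeι]
    have h2 : I ≤ ι.ker.map g := by
      rw [Scheme.IdealSheafData.le_map_iff_comap_le, h]
    refine h2.trans (le_of_eq ?_)
    rw [Scheme.IdealSheafData.map]
    have h3 : ι = ι.toImage ≫ ι.ker.subschemeι := by simp
    have h4 : IsIso ι.toImage := inferInstance
    conv_rhs => rw [h3, Category.assoc, Scheme.Hom.ker_comp_of_isIso]
  refine ⟨IsClosedImmersion.lift I.subschemeι (ι ≫ g) h1, ?_⟩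
  refine isPullback_of_isClosedImmersion _ _ _ _ ?_ ?_
  · rw [IsClosedImmersion.lift_fac]
  · rw [Scheme.IdealSheafData.ker_subschemeι, h]

variable {r : ℕ} {k : Type u} [Field k] {d : ℕ} {Z : Scheme.{u}} (i : Z ⟶ CohB1.ProjSpace r k)
  (P Q : Form r k d)

section Def

variable (A : Type u) [CommRing A] [Algebra k A]

/-- `Z ×_k Spec A`. -/
noncomputable abbrev zprod : Scheme.{u} :=
  pullback (i ≫ CohB1.ProjSpace.toSpec r k) (Spec.map (CommRingCat.ofHom (algebraMap k A)))

/-- The projection of `Z ×_k Spec A` to `Z`. -/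
noncomputable abbrev prZ : zprod i A ⟶ Z := pullback.fst _ _

/-- The projection of `Z ×_k Spec A` to `Spec A`. -/
noncomputable abbrev prA : zprod i A ⟶ Spec (CommRingCat.of A) := pullback.snd _ _

variable {A} in
/-- The function `t` on a scheme over `Spec A`. -/
noncomputable def pullFn {Y : Scheme.{u}} (b : Y ⟶ Spec (CommRingCat.of A)) (t : A) : Γ(Y, ⊤) :=
  b.appTop.hom ((Scheme.ΓSpecIso (CommRingCat.of A)).inv.hom t)

variable {A}

theorem appTop_pullFn {Y Y' : Scheme.{u}} (f : Y' ⟶ Y) (b : Y ⟶ Spec (CommRingCat.of A)) (t : A) :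
    f.appTop.hom (pullFn b t) = pullFn (f ≫ b) t := by
  rw [pullFn, pullFn, Scheme.Hom.comp_appTop]
  rfl

theorem pullFn_comp_map {B : Type u} [CommRing B] (φ : A →+* B) {Y : Scheme.{u}}
    (b : Y ⟶ Spec (CommRingCat.of B)) (t : A) :
    pullFn (b ≫ Spec.map (CommRingCat.ofHom φ)) t = pullFn b (φ t) := by
  rw [pullFn, pullFn, Scheme.Hom.comp_appTop]
  have h := Scheme.ΓSpecIso_inv_naturality (CommRingCat.ofHom φ)
  have h1 := congrArg (fun g => g.hom t) h
  change _ = b.appTop.hom ((CommRingCat.ofHom φ ≫ (Scheme.ΓSpecIso (CommRingCat.of B)).inv).hom t)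
  rw [h]
  rfl

theorem constSec_eq (c : k) {Y : Scheme.{u}} (y : Y ⟶ CohB1.ProjSpace r k) :
    constSec y c = pullFn (y ≫ CohB1.ProjSpace.toSpec r k) c := rfl

/-- The ideal of the family in `Z ×_k Spec A`. -/
noncomputable def famIdeal (t : A) : (zprod i A).IdealSheafData :=
  pIdeal (prZ i A ≫ i) P Q (pullFn (prA i A) t)

variable (A)

/-- The family of sections `P + t Q` of `Z` over `Spec A`. -/
noncomputable abbrev Fam (t : A) : Scheme.{u} := (famIdeal i P Q t).subscheme

/-- The embedding of the family in `Z ×_k Spec A`. -/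
noncomputable abbrev famι (t : A) : Fam i P Q A t ⟶ zprod i A := (famIdeal i P Q t).subschemeι

/-- The family is over `Z`. -/
noncomputable abbrev famToZ (t : A) : Fam i P Q A t ⟶ Z := famι i P Q A t ≫ prZ i A

/-- The family is over `Spec A`. -/
noncomputable abbrev famToA (t : A) : Fam i P Q A t ⟶ Spec (CommRingCat.of A) := famι i P Q A t ≫ prA i A

end Def

section BaseChange

variable {A : Type u} [CommRing A] [Algebra k A]

/-- The description of morphisms from a closed subscheme of a scheme over `Z` and `Spec A`. -/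
theorem exists_isPullback_gen {Y W : Scheme.{u}} (a : Y ⟶ Z) (b : Y ⟶ Spec (CommRingCat.of A))
    (hab : a ≫ i ≫ CohB1.ProjSpace.toSpec r k = b ≫ Spec.map (CommRingCat.ofHom (algebraMap k A)))
    (t : A) (ι : W ⟶ Y) [IsClosedImmersion ι] (hι : ι.ker = pIdeal (a ≫ i) P Q (pullFn b t)) :
    ∃ g : W ⟶ Fam i P Q A t, IsPullback ι g (pullback.lift a b hab) (famι i P Q A t) := by
  refine exists_isPullback _ _ _ ?_
  rw [hι, famIdeal, comap_pIdeal, appTop_pullFn]
  have h1 : pullback.lift a b hab ≫ prZ i A ≫ i = a ≫ i := by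
    rw [← Category.assoc, pullback.lift_fst]
  have h2 : pullback.lift a b hab ≫ prA i A = b := pullback.lift_snd _ _ _
  rw [h1, h2]

theorem famToZ_toSpec (t : A) : famToZ i P Q A t ≫ i ≫ CohB1.ProjSpace.toSpec r k =
    famToA i P Q A t ≫ Spec.map (CommRingCat.ofHom (algebraMap k A)) := by
  rw [Category.assoc, Category.assoc]
  congr 1
  exact pullback.condition

/-- The equation vanishes on the family. -/
theorem pIdeal_famToZ (t : A) : pIdeal (famToZ i P Q A t ≫ i) P Q (pullFn (famToA i P Q A t) t) = ⊥ := by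
  have h : (famIdeal i P Q t).comap (famι i P Q A t) = ⊥ := by
    have h1 := (IsPullback.of_hasPullback (famι i P Q A t) (famι i P Q A t))
    rw [Scheme.IdealSheafData.comap]
    have : IsIso (pullback.fst (famι i P Q A t) (famι i P Q A t)) := inferInstance
    exact Scheme.Hom.ker_eq_bot_of_isIso _
  rw [famIdeal, comap_pIdeal, appTop_pullFn] at h
  exact h

theorem isProper_zprod [IsClosedImmersion i] : IsProper (prA i A) := by
  have h1 : IsProper (CohB1.ProjSpace.toSpec r k) := Groth.Agent.Ega3B.ProjProper.isProper_toSpec r k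
  infer_instance

theorem isProper_famToA [IsClosedImmersion i] (t : A) : IsProper (famToA i P Q A t) := by
  have := isProper_zprod (A := A) i
  infer_instance

/-- Base change of the family. -/
theorem exists_isPullback_map {B : Type u} [CommRing B] [Algebra k B] (φ : A →ₐ[k] B) (t : A) (t' : B)
    (ht : φ t = t') :
    ∃ g : Fam i P Q B t' ⟶ Fam i P Q A t, g ≫ famToZ i P Q A t = famToZ i P Q B t' ∧
      IsPullback g (famToA i P Q B t') (famToA i P Q A t) (Spec.map (CommRingCat.ofHom φ.toRingHom)) := by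
  have hφ : (CommRingCat.ofHom (algebraMap k A)) ≫ CommRingCat.ofHom φ.toRingHom =
      CommRingCat.ofHom (algebraMap k B) := by
    rw [← CommRingCat.ofHom_comp]
    congr 1
    exact φ.comp_algebraMap
  have hb : prZ i B ≫ i ≫ CohB1.ProjSpace.toSpec r k = (prA i B ≫ Spec.map (CommRingCat.ofHom φ.toRingHom)) ≫
      Spec.map (CommRingCat.ofHom (algebraMap k A)) := by
    rw [Category.assoc, ← Spec.map_comp, hφ]
    exact pullback.condition
  have hker : (famι i P Q B t').ker = pIdeal (prZ i B ≫ i) P Q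
      (pullFn (prA i B ≫ Spec.map (CommRingCat.ofHom φ.toRingHom)) t) := by
    rw [pullFn_comp_map, Scheme.IdealSheafData.ker_subschemeι, famIdeal, ← ht]
    rfl
  obtain ⟨g, hg⟩ := exists_isPullback_gen i P Q (prZ i B) _ hb t (famι i P Q B t') hker
  have h2 : IsPullback (pullback.lift (prZ i B) _ hb) (prA i B) (prA i A)
      (Spec.map (CommRingCat.ofHom φ.toRingHom)) := by
    refine IsPullback.of_right (h₁₂ := prZ i A) (v₁₃ := i ≫ CohB1.ProjSpace.toSpec r k)
      (h₂₂ := Spec.map (CommRingCat.ofHom (algebraMap k A))) ?_ (pullback.lift_snd _ _ _)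
      (IsPullback.of_hasPullback _ _)
    rw [pullback.lift_fst, ← Spec.map_comp, hφ]
    exact (IsPullback.of_hasPullback _ _)
  refine ⟨g, ?_, ?_⟩
  · rw [← Category.assoc, ← hg.w, Category.assoc, pullback.lift_fst]
  · exact (hg.flip.paste_vert h2)

/-- For a constant parameter the family is the product with the section. -/
theorem exists_isPullback_sec (c : k) (t : A) (ht : algebraMap k A c = t) :
    ∃ g : Fam i P Q A t ⟶ Sec i ({P + c • Q} : Set (Form r k d)),
      g ≫ secι i ({P + c • Q} : Set (Form r k d)) = famToZ i P Q A t ∧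
      IsPullback g (famToA i P Q A t) (secToSpec i ({P + c • Q} : Set (Form r k d)))
        (Spec.map (CommRingCat.ofHom (algebraMap k A))) := by
  have h1 : (famι i P Q A t).ker = (secIdeal i ({P + c • Q} : Set (Form r k d))).comap (prZ i A) := by
    rw [Scheme.IdealSheafData.ker_subschemeι, ← pIdeal_const, comap_pIdeal, constSec_eq, appTop_pullFn,
      famIdeal, ← ht]
    have h2 : prZ i A ≫ i ≫ CohB1.ProjSpace.toSpec r k =
      prA i A ≫ Spec.map (CommRingCat.ofHom (algebraMap k A)) := pullback.condition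
    rw [h2, pullFn_comp_map]
  obtain ⟨g, hg⟩ := exists_isPullback _ _ _ h1
  exact ⟨g, hg.w.symm, hg.flip.paste_vert (IsPullback.of_hasPullback _ _)⟩

theorem pIdeal_congr {Y : Scheme.{u}} (y : Y ⟶ CohB1.ProjSpace r k) {P Q P' Q' : Form r k d} {s s' : Γ(Y, ⊤)}
    (h : ∀ (j : Fin (r + 1)) (U : Y.Opens) (hU : U ≤ y ⁻¹ᵁ chart r k j),
      ∃ u : Γ(Y, U), IsUnit u ∧ peqn y P Q s j U hU = u * peqn y P' Q' s' j U hU) :
    pIdeal y P Q s = pIdeal y P' Q' s' := by
  refine ext_of_charts y fun j V hV => ?_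
  rw [pIdeal_ideal_of_le y P Q _ j V hV, pIdeal_ideal_of_le y P' Q' _ j V hV]
  obtain ⟨u, hu, h1⟩ := h j V.1 hV
  rw [h1]
  exact Ideal.span_singleton_mul_left_unit hu _

theorem pullFn_mul {Y : Scheme.{u}} (b : Y ⟶ Spec (CommRingCat.of A)) (t t' : A) :
    pullFn b (t * t') = pullFn b t * pullFn b t' := by
  simp only [pullFn, map_mul]

theorem pullFn_add {Y : Scheme.{u}} (b : Y ⟶ Spec (CommRingCat.of A)) (t t' : A) :
    pullFn b (t + t') = pullFn b t + pullFn b t' := by
  simp only [pullFn, map_add]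

theorem pullFn_one {Y : Scheme.{u}} (b : Y ⟶ Spec (CommRingCat.of A)) : pullFn b (1 : A) = 1 := by
  simp only [pullFn, map_one]

/-- Exchanging the two forms and inverting the parameter. -/
theorem famIdeal_swap {t t' : A} (h : t * t' = 1) : famIdeal i P Q t = famIdeal i Q P t' := by
  refine pIdeal_congr _ fun j U hU => ⟨Groth.Agent.Fdesc.LocGen.ores le_top (pullFn (prA i A) t), ?_, ?_⟩
  · refine IsUnit.map _ (IsUnit.of_mul_eq_one (pullFn (prA i A) t') ?_)
    rw [← pullFn_mul, h, pullFn_one]
  · have h1 : Groth.Agent.Fdesc.LocGen.ores (le_top : U ≤ ⊤) (pullFn (prA i A) t) *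
        Groth.Agent.Fdesc.LocGen.ores le_top (pullFn (prA i A) t') = 1 := by
      rw [← map_mul, ← pullFn_mul, h, pullFn_one, map_one]
    rw [peqn, peqn, mul_add, ← mul_assoc, h1]
    ring

/-- Translation of the parameter. -/
theorem famIdeal_add (t : A) (c : k) :
    famIdeal i (P + c • Q) Q t = famIdeal i P Q (t + algebraMap k A c) := by
  refine pIdeal_congr _ fun j U hU => ⟨1, isUnit_one, ?_⟩
  rw [peqn, eqn_add_smul, peqn, peqn, one_mul, pullFn_add, map_add, constSec_eq]
  have h2 : (prZ i A ≫ i) ≫ CohB1.ProjSpace.toSpec r k =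
      prA i A ≫ Spec.map (CommRingCat.ofHom (algebraMap k A)) :=
    (Category.assoc _ _ _).trans pullback.condition
  rw [h2, pullFn_comp_map]
  ring

end BaseChange

end Groth.Agent.Lefpen.H288.FamBC
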