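import Groth.Agent.Lefpen.H288.FamBC

/-!
# Affine charts of the family `P + t Q`

For `v : Spec B ⟶ Z` (a morphism of `k`-schemes) landing in the chart `D_+(T_j)`:
* `beqn v j hj G : B`: the equation `G / T_j^d`;
* `exists_chart`: `Fam i P Q A t ×_Z Spec B = Spec ((B ⊗[k] A) / (P_j ⊗ 1 + Q_j ⊗ t))`.
-/

set_option autoImplicit false
universe u

open CategoryTheory AlgebraicGeometry Limits TopologicalSpace Opposite TensorProduct

namespace Groth.Agent.Lefpen.H288.FamChart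

open LefPen Groth.Agent.Lefpen.H288.Fam Groth.Agent.Lefpen.H288.FamBC Groth.Agent.Lefpen.H705.SecIdeal
open Groth.Agent.Fdesc.LocGen

theorem mem_ker_specMap {C D : Type u} [CommRing C] [CommRing D] (φ : C →+* D)
    (x : Γ(Spec (CommRingCat.of C), ⊤)) :
    x ∈ RingHom.ker ((Spec.map (CommRingCat.ofHom φ)).app ⊤).hom ↔
      φ ((Scheme.ΓSpecIso (CommRingCat.of C)).hom.hom x) = 0 := by
  have h := Scheme.ΓSpecIso_naturality (CommRingCat.ofHom φ)
  have h1 := congrArg (fun g => g.hom x) h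
  change (Scheme.ΓSpecIso (CommRingCat.of D)).hom.hom (((Spec.map (CommRingCat.ofHom φ)).appTop).hom x) =
    φ ((Scheme.ΓSpecIso (CommRingCat.of C)).hom.hom x) at h1
  rw [RingHom.mem_ker, ← h1]
  constructor
  · intro h2
    change ((Spec.map (CommRingCat.ofHom φ)).appTop).hom x = 0 at h2
    rw [h2, map_zero]
  · intro h2
    have h3 := (ConcreteCategory.bijective_of_isIso (Scheme.ΓSpecIso (CommRingCat.of D)).hom).1
    refine h3 (a₁ := ((Spec.map (CommRingCat.ofHom φ)).appTop).hom x) (a₂ := 0) ?_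
    rw [map_zero]
    exact h2

/-- The ideal sheaf on an affine scheme of a principal closed subscheme. -/
theorem ker_mk_span {C : Type u} [CommRing C] (h : C) (I : (Spec (CommRingCat.of C)).IdealSheafData)
    (e : Γ(Spec (CommRingCat.of C), ⊤)) (he : (Scheme.ΓSpecIso (CommRingCat.of C)).hom.hom e = h)
    (hI : I.ideal ⟨⊤, isAffineOpen_top _⟩ = Ideal.span {e}) :
    (Spec.map (CommRingCat.ofHom (Ideal.Quotient.mk (Ideal.span {h})))).ker = I := by
  refine Scheme.IdealSheafData.ext_of_isAffine ?_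
  subst he
  rw [hI, Scheme.Hom.ker_apply]
  ext x
  have h1 := mem_ker_specMap (Ideal.Quotient.mk
    (Ideal.span {(Scheme.ΓSpecIso (CommRingCat.of C)).hom.hom e})) x
  rw [Ideal.Quotient.eq_zero_iff_mem, Ideal.mem_span_singleton] at h1
  rw [Ideal.mem_span_singleton]
  refine h1.trans ?_
  constructor
  · rintro ⟨c, hc⟩
    refine ⟨(Scheme.ΓSpecIso (CommRingCat.of C)).inv.hom c, ?_⟩
    apply (ConcreteCategory.bijective_of_isIso (Scheme.ΓSpecIso (CommRingCat.of C)).hom).1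
    change (Scheme.ΓSpecIso (CommRingCat.of C)).hom.hom x = (Scheme.ΓSpecIso (CommRingCat.of C)).hom.hom _
    rw [hc, map_mul]
    congr 1
    exact (ConcreteCategory.congr_hom (Scheme.ΓSpecIso (CommRingCat.of C)).inv_hom_id c).symm
  · rintro ⟨c, rfl⟩
    rw [map_mul]
    exact Dvd.intro _ rfl

variable {r : ℕ} {k : Type u} [Field k] {d : ℕ} {Z : Scheme.{u}} (i : Z ⟶ CohB1.ProjSpace r k)
  (P Q : Form r k d)

variable {A : Type u} [CommRing A] [Algebra k A] {B : Type u} [CommRing B] [Algebra k B]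

/-- The equation `G / T_j^d` on an affine scheme over the chart `D_+(T_j)`. -/
noncomputable def beqn (y : Spec (CommRingCat.of B) ⟶ CohB1.ProjSpace r k) (j : Fin (r + 1))
    (hj : ⊤ ≤ y ⁻¹ᵁ chart r k j) (G : Form r k d) : B :=
  (Scheme.ΓSpecIso (CommRingCat.of B)).hom.hom (eqn y j ⊤ hj G)

/-- The equation of the family on an affine chart. -/
noncomputable def heqn (y : Spec (CommRingCat.of B) ⟶ CohB1.ProjSpace r k) (j : Fin (r + 1))
    (hj : ⊤ ≤ y ⁻¹ᵁ chart r k j) (t : A) : B ⊗[k] A :=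
  beqn y j hj P ⊗ₜ[k] 1 + beqn y j hj Q ⊗ₜ[k] t

theorem gamma_specMap {C D : Type u} [CommRing C] [CommRing D] (φ : C →+* D)
    (x : Γ(Spec (CommRingCat.of C), ⊤)) :
    (Scheme.ΓSpecIso (CommRingCat.of D)).hom.hom (((Spec.map (CommRingCat.ofHom φ)).appTop).hom x) =
    φ ((Scheme.ΓSpecIso (CommRingCat.of C)).hom.hom x) :=
  congrArg (fun g => g.hom x) (Scheme.ΓSpecIso_naturality (CommRingCat.ofHom φ))

theorem gamma_inv {C : Type u} [CommRing C] (c : C) :
    (Scheme.ΓSpecIso (CommRingCat.of C)).hom.hom ((Scheme.ΓSpecIso (CommRingCat.of C)).inv.hom c) = c :=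
  ConcreteCategory.congr_hom (Scheme.ΓSpecIso (CommRingCat.of C)).inv_hom_id c

omit [Algebra k B] in
theorem top_le_comp {C : Type u} [CommRing C] (y : Spec (CommRingCat.of B) ⟶ CohB1.ProjSpace r k)
    (j : Fin (r + 1)) (hj : ⊤ ≤ y ⁻¹ᵁ chart r k j) (φ : B →+* C) :
    ⊤ ≤ (Spec.map (CommRingCat.ofHom φ) ≫ y) ⁻¹ᵁ chart r k j :=
  fun x _ => hj (show (Spec.map (CommRingCat.ofHom φ)) x ∈ (⊤ : (Spec (CommRingCat.of B)).Opens) from trivial)

omit [Algebra k B] in
theorem beqn_comp {C : Type u} [CommRing C] (y : Spec (CommRingCat.of B) ⟶ CohB1.ProjSpace r k)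
    (j : Fin (r + 1)) (hj : ⊤ ≤ y ⁻¹ᵁ chart r k j) (φ : B →+* C)
    (hj' : ⊤ ≤ (Spec.map (CommRingCat.ofHom φ) ≫ y) ⁻¹ᵁ chart r k j) (G : Form r k d) :
    beqn (Spec.map (CommRingCat.ofHom φ) ≫ y) j hj' G = φ (beqn y j hj G) := by
  rw [beqn, beqn, ← gamma_specMap]
  congr 1

/-- The affine charts of the family. -/
theorem exists_chart (v : Spec (CommRingCat.of B) ⟶ Z)
    (hv : v ≫ i ≫ CohB1.ProjSpace.toSpec r k = Spec.map (CommRingCat.ofHom (algebraMap k B)))
    (j : Fin (r + 1)) (hj : ⊤ ≤ (v ≫ i) ⁻¹ᵁ chart r k j) (t : A) :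
    ∃ g : Spec (CommRingCat.of ((B ⊗[k] A) ⧸ Ideal.span {heqn P Q (v ≫ i) j hj t})) ⟶ Fam i P Q A t,
      IsPullback g (Spec.map (CommRingCat.ofHom ((Ideal.Quotient.mk
        (Ideal.span {heqn P Q (v ≫ i) j hj t})).comp
          (Algebra.TensorProduct.includeLeft : B →ₐ[k] B ⊗[k] A).toRingHom))) (famToZ i P Q A t) v ∧
      g ≫ famToA i P Q A t = Spec.map (CommRingCat.ofHom ((Ideal.Quotient.mk
        (Ideal.span {heqn P Q (v ≫ i) j hj t})).comp
          (Algebra.TensorProduct.includeRight : A →ₐ[k] B ⊗[k] A).toRingHom)) := by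
  have hpo := isPullback_SpecMap_of_isPushout _ _ _ _ (CommRingCat.isPushout_tensorProduct k B A)
  let L : B →+* B ⊗[k] A := (Algebra.TensorProduct.includeLeft : B →ₐ[k] B ⊗[k] A).toRingHom
  let R : A →+* B ⊗[k] A := (Algebra.TensorProduct.includeRight : A →ₐ[k] B ⊗[k] A).toRingHom
  let h := heqn P Q (v ≫ i) j hj t
  let ι : Spec (CommRingCat.of ((B ⊗[k] A) ⧸ Ideal.span {h})) ⟶ Spec (CommRingCat.of (B ⊗[k] A)) :=
    Spec.map (CommRingCat.ofHom (Ideal.Quotient.mk (Ideal.span {h})))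
  let a : Spec (CommRingCat.of (B ⊗[k] A)) ⟶ Z := Spec.map (CommRingCat.ofHom L) ≫ v
  let b : Spec (CommRingCat.of (B ⊗[k] A)) ⟶ Spec (CommRingCat.of A) := Spec.map (CommRingCat.ofHom R)
  have hpo' : IsPullback b (Spec.map (CommRingCat.ofHom L))
      (Spec.map (CommRingCat.ofHom (algebraMap k A))) (Spec.map (CommRingCat.ofHom (algebraMap k B))) := hpo.flip
  have hab : a ≫ i ≫ CohB1.ProjSpace.toSpec r k = b ≫ Spec.map (CommRingCat.ofHom (algebraMap k A)) := by
    rw [Category.assoc, hv]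
    exact hpo'.w.symm
  have hι : IsClosedImmersion ι := IsClosedImmersion.spec_of_surjective _ Ideal.Quotient.mk_surjective
  have hjL := top_le_comp (v ≫ i) j hj L
  have hker : ι.ker = pIdeal (a ≫ i) P Q (pullFn b t) := by
    refine ker_mk_span h _ (peqn (a ≫ i) P Q (pullFn b t) j ⊤
      (by rw [Category.assoc]; exact hjL)) ?_ ?_
    · have h1 : ∀ G : Form r k d, (Scheme.ΓSpecIso (CommRingCat.of (B ⊗[k] A))).hom.hom
          (eqn (a ≫ i) j ⊤ (by rw [Category.assoc]; exact hjL) G) = L (beqn (v ≫ i) j hj G) := by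
        intro G
        have := beqn_comp (C := B ⊗[k] A) (v ≫ i) j hj L hjL G
        rw [← this, beqn]
        simp only [a, Category.assoc]
      have h2 : (Scheme.ΓSpecIso (CommRingCat.of (B ⊗[k] A))).hom.hom (pullFn b t) = R t := by
        rw [pullFn, gamma_specMap, gamma_inv]
      rw [peqn, map_add, map_mul, h1, h1, ores_refl, h2]
      simp [h, heqn, L, R]
    · exact pIdeal_ideal_of_le (a ≫ i) P Q (pullFn b t) j ⟨⊤, isAffineOpen_top _⟩
        (by rw [Category.assoc]; exact hjL)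
  obtain ⟨g, hg⟩ := exists_isPullback_gen i P Q a b hab t ι hker
  have h2 : IsPullback (pullback.lift a b hab) (Spec.map (CommRingCat.ofHom L)) (prZ i A) v := by
    refine IsPullback.of_right (h₁₂ := prA i A) (v₁₃ := Spec.map (CommRingCat.ofHom (algebraMap k A)))
      (h₂₂ := i ≫ CohB1.ProjSpace.toSpec r k) ?_ (pullback.lift_fst _ _ _)
      (IsPullback.of_hasPullback _ _).flip
    rw [pullback.lift_snd, hv]
    exact hpo'
  refine ⟨g, ?_, ?_⟩
  · have h3 := hg.flip.paste_vert h2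
    rw [← Spec.map_comp, ← CommRingCat.ofHom_comp] at h3
    exact h3
  · rw [← Category.assoc, ← hg.w, Category.assoc, pullback.lift_snd, ← Spec.map_comp, ← CommRingCat.ofHom_comp]

end Groth.Agent.Lefpen.H288.FamChart
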